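import Mathlib
import Cfsg.Agent.Lib.Helper44.FW.Defs

/-!
# Project FW (S3211): package [CY]

The square roots of `t₀ = x₀ (n x₀ n⁻¹)` inside `L₁L₂` are at most four.
-/

set_option autoImplicit false

namespace Cfsg.Agent.Lib.Helper87.FW

open Cfsg.Agent.Lib.Helper44.FW

universe u

/-- The join of two elementwise commuting subgroups is their product set. -/
theorem cy_mem_sup_comm {G : Type u} [Group G] {L₁ L₂ : Subgroup G}
    (hc : ∀ x ∈ L₁, ∀ y ∈ L₂, x * y = y * x) {r : G} (hr : r ∈ L₁ ⊔ L₂) :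
    ∃ u ∈ L₁, ∃ v ∈ L₂, r = u * v := by
  let S : Subgroup G :=
    { carrier := {r | ∃ u ∈ L₁, ∃ v ∈ L₂, r = u * v}
      mul_mem' := by
        rintro _ _ ⟨u, hu, v, hv, rfl⟩ ⟨u', hu', v', hv', rfl⟩
        refine ⟨u * u', L₁.mul_mem hu hu', v * v', L₂.mul_mem hv hv', ?_⟩
        have h := hc u' hu' v hv
        calc u * v * (u' * v') = u * (v * u') * v' := by group
          _ = u * (u' * v) * v' := by rw [h]
          _ = u * u' * (v * v') := by group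
      one_mem' := ⟨1, L₁.one_mem, 1, L₂.one_mem, by simp⟩
      inv_mem' := by
        rintro _ ⟨u, hu, v, hv, rfl⟩
        refine ⟨u⁻¹, L₁.inv_mem hu, v⁻¹, L₂.inv_mem hv, ?_⟩
        have h := hc u hu v hv
        rw [h, mul_inv_rev] }
  have h1 : L₁ ≤ S := fun x hx => ⟨x, hx, 1, L₂.one_mem, by simp⟩
  have h2 : L₂ ≤ S := fun y hy => ⟨1, L₁.one_mem, y, hy, by simp⟩
  exact (sup_le h1 h2) hr

/-- An element of `⟨j⟩` with `j² = 1` is `1` or `j`. -/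
theorem cy_zpowers_two {G : Type u} [Group G] {j z : G} (hj2 : j ^ 2 = 1)
    (hz : z ∈ Subgroup.zpowers j) : z = 1 ∨ z = j := by
  obtain ⟨k, rfl⟩ := Subgroup.mem_zpowers_iff.mp hz
  have h2 : j ^ (2 : ℤ) = 1 := by rw [zpow_two, ← sq]; exact hj2
  rcases Int.even_or_odd' k with ⟨m, rfl | rfl⟩
  · left; rw [zpow_mul, h2, one_zpow]
  · right; rw [zpow_add, zpow_mul, h2, one_zpow, one_mul, zpow_one]

/-- Products of square roots: at most two values. -/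
theorem cy_two_roots {G : Type u} [Group G] {L₁ L₂ : Subgroup G} {j : G}
    (h1 : SL2Like L₁ j) (h2 : SL2Like L₂ j) (hjc : ∀ v ∈ L₂, j * v = v * j) (hj2 : j ^ 2 = 1)
    (x y : G) (hx : x ∈ L₁) (hx2 : x ^ 2 = j) (hy : y ∈ L₂) (hy2 : y ^ 2 = j) :
    ∃ a : G, ∀ u ∈ L₁, ∀ v ∈ L₂, u ^ 2 = x → v ^ 2 = y → u * v = a ∨ u * v = a * j := by
  have hjj : j * j = 1 := by rw [← sq]; exact hj2
  by_cases h : ∃ u ∈ L₁, ∃ v ∈ L₂, u ^ 2 = x ∧ v ^ 2 = y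
  · obtain ⟨u0, hu0, v0, hv0, hu0x, hv0y⟩ := h
    refine ⟨u0 * v0, ?_⟩
    intro u hu v hv hux hvy
    have hjv0 := hjc v0 hv0
    rcases h1.sq x hx hx2 u0 hu0 u hu hu0x hux with hu' | hu'
    · rcases h2.sq y hy hy2 v0 hv0 v hv hv0y hvy with hv' | hv'
      · left; rw [hu', hv']
      · right; rw [hu', hv', mul_assoc]
    · rcases h2.sq y hy hy2 v0 hv0 v hv hv0y hvy with hv' | hv'
      · right
        rw [hu', hv']
        calc u0 * j * v0 = u0 * (j * v0) := by rw [mul_assoc]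
          _ = u0 * (v0 * j) := by rw [hjv0]
          _ = u0 * v0 * j := by rw [mul_assoc]
      · left
        rw [hu', hv']
        calc u0 * j * (v0 * j) = u0 * (j * v0) * j := by group
          _ = u0 * (v0 * j) * j := by rw [hjv0]
          _ = u0 * v0 * (j * j) := by group
          _ = u0 * v0 := by rw [hjj, mul_one]
  · exact ⟨1, fun u hu v hv hux hvy => absurd ⟨u, hu, v, hv, hux, hvy⟩ h⟩

/-- [CY] the square roots of `t₀ = x₀ (n x₀ n⁻¹)` inside `L₁L₂` are at most four. -/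
theorem pkgCY : PkgCY.{u} := by
  intro G _ L₁ L₂ j n hC h1 h2 x₀ hx₀ hx₀2
  have hjmem : j ∈ L₁ ⊓ L₂ := by rw [hC.meet]; exact Subgroup.mem_zpowers j
  have hjL1 : j ∈ L₁ := hjmem.1
  have hjL2 : j ∈ L₂ := hjmem.2
  have hj2 : j ^ 2 = 1 := by rw [← hC.ord]; exact pow_orderOf_eq_one j
  have hjj : j * j = 1 := by rw [← sq]; exact hj2
  have hjinv : j⁻¹ = j := inv_eq_of_mul_eq_one_right hjj
  have hnj : j * n = n * j := (Subgroup.mem_centralizer_iff.mp hC.hn) j (Set.mem_singleton j)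
  have hjc1 : ∀ u ∈ L₁, j * u = u * j := fun u hu => (hC.comm u hu j hjL2).symm
  have hjc2 : ∀ v ∈ L₂, j * v = v * j := fun v hv => hC.comm j hjL1 v hv
  have hy₀ : n * x₀ * n⁻¹ ∈ L₂ := by
    rw [← hC.swap]
    exact ⟨x₀, hx₀, rfl⟩
  have hy₀2 : (n * x₀ * n⁻¹) ^ 2 = j := by
    rw [conj_pow, hx₀2, ← hnj, mul_assoc, mul_inv_cancel, mul_one]
  have hxj : x₀ * j ∈ L₁ := L₁.mul_mem hx₀ hjL1
  have hyj : n * x₀ * n⁻¹ * j ∈ L₂ := L₂.mul_mem hy₀ hjL2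
  have hxj2 : (x₀ * j) ^ 2 = j := by
    have hc := hjc1 x₀ hx₀
    calc (x₀ * j) ^ 2 = x₀ * (j * x₀) * j := by rw [sq]; group
      _ = x₀ * (x₀ * j) * j := by rw [hc]
      _ = x₀ ^ 2 * (j * j) := by rw [sq]; group
      _ = j := by rw [hx₀2, hjj, mul_one]
  have hyj2 : (n * x₀ * n⁻¹ * j) ^ 2 = j := by
    have hc := hjc2 _ hy₀
    calc (n * x₀ * n⁻¹ * j) ^ 2 = (n * x₀ * n⁻¹) * (j * (n * x₀ * n⁻¹)) * j := by rw [sq]; group
      _ = (n * x₀ * n⁻¹) * ((n * x₀ * n⁻¹) * j) * j := by rw [hc]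
      _ = (n * x₀ * n⁻¹) ^ 2 * (j * j) := by rw [sq]; group
      _ = j := by rw [hy₀2, hjj, mul_one]
  obtain ⟨a, ha⟩ := cy_two_roots h1 h2 hjc2 hj2 x₀ (n * x₀ * n⁻¹) hx₀ hx₀2 hy₀ hy₀2
  obtain ⟨b, hb⟩ := cy_two_roots h1 h2 hjc2 hj2 (x₀ * j) (n * x₀ * n⁻¹ * j) hxj hxj2 hyj hyj2
  refine ⟨a, b, ?_⟩
  intro r hr hr2
  obtain ⟨u, hu, v, hv, rfl⟩ := cy_mem_sup_comm hC.comm hr
  have huv : Commute u v := hC.comm u hu v hv
  have hsq : u ^ 2 * v ^ 2 = x₀ * (n * x₀ * n⁻¹) := by rw [← huv.mul_pow]; exact hr2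
  -- z = x₀⁻¹ u² = y₀ v⁻² ∈ L₁ ∩ L₂
  have hz1 : x₀⁻¹ * u ^ 2 ∈ L₁ := L₁.mul_mem (L₁.inv_mem hx₀) (L₁.pow_mem hu 2)
  have hzeq : x₀⁻¹ * u ^ 2 = (n * x₀ * n⁻¹) * (v ^ 2)⁻¹ := by
    have : u ^ 2 = x₀ * (n * x₀ * n⁻¹) * (v ^ 2)⁻¹ := by rw [← hsq]; group
    rw [this]; group
  have hz2 : x₀⁻¹ * u ^ 2 ∈ L₂ := by
    rw [hzeq]; exact L₂.mul_mem hy₀ (L₂.inv_mem (L₂.pow_mem hv 2))
  have hz : x₀⁻¹ * u ^ 2 ∈ Subgroup.zpowers j := by
    rw [← hC.meet]; exact ⟨hz1, hz2⟩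
  rcases cy_zpowers_two hj2 hz with h | h
  · -- (α)
    have hu2 : u ^ 2 = x₀ := by
      have := congrArg (fun t => x₀ * t) h
      simpa using this
    have hv2 : v ^ 2 = n * x₀ * n⁻¹ := by
      rw [hu2] at hsq
      exact mul_left_cancel hsq
    rcases ha u hu v hv hu2 hv2 with h' | h'
    · left; exact h'
    · right; left; exact h'
  · -- (β)
    have hu2 : u ^ 2 = x₀ * j := by
      have := congrArg (fun t => x₀ * t) h
      simpa using this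
    have hv2 : v ^ 2 = n * x₀ * n⁻¹ * j := by
      rw [hu2, mul_assoc] at hsq
      have h3 : j * v ^ 2 = n * x₀ * n⁻¹ := mul_left_cancel hsq
      have h4 : v ^ 2 = j * (n * x₀ * n⁻¹) := by
        rw [← h3, ← mul_assoc, hjj, one_mul]
      rw [h4, hjc2 _ hy₀]
    rcases hb u hu v hv hu2 hv2 with h' | h'
    · right; right; left; exact h'
    · right; right; right; exact h'

end Cfsg.Agent.Lib.Helper87.FW
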